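import Cfsg.Agent.Lib.HW.A3

/-!
# S3665 (`J₂` by order; copy of `Lib.TA`, helper10): the centre of `T` does not have order 16
-/

set_option autoImplicit false

namespace Cfsg.Lib.HW

open Subgroup Cfsg.Lib.BG Cfsg.Lib.FGS Cfsg.Lib.SR Cfsg.Lib.N8
open scoped commutatorElement Cfsg.Lib.Transfer

variable {G : Type*} [Group G] [Finite G] {M T Z : Subgroup G} {e s z σ : G}

namespace Al

variable (a : Al T M z) {k m n : G}
include a

omit [Finite G] in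
theorem cmL (hm : m ∈ M) (hn : n ∈ M) (hk : k ∈ M) : ⁅m * n, k⁆ = ⁅n, k⁆ * ⁅m, k⁆ := by
  rw [← cj_of_comm (a.zc (a.zp.2 (a.cm hn hk)) (a.le hm))]; simp only [cdef, cj_def]; group

omit [Finite G] in
theorem cmR (hm : m ∈ M) (hn : n ∈ M) (hk : k ∈ M) : ⁅k, m * n⁆ = ⁅k, m⁆ * ⁅k, n⁆ := by
  rw [← cj_of_comm (a.zc (a.zp.2 (a.cm hk hn)) (a.le hm))]; simp only [cdef, cj_def]; group

omit [Finite G] in
theorem sqmul (hm : m ∈ M) (hn : n ∈ M) : m * n * (m * n) = m * m * (n * n) * ⁅n, m⁆ := by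
  have : m * n * (m * n) = cj m ⁅n, m⁆ * (m * m * (n * n)) := by simp only [cdef, cj_def]; group
  rw [this, cj_of_comm (a.zc (a.zp.2 (a.cm hn hm)) (a.le hm)),
    a.zc (a.zp.2 (a.cm hn hm)) (a.le (mul_mem (mul_mem hm hm) (mul_mem hn hn)))]

end Al

end Cfsg.Lib.HW
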