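import Cfsg.Agent.Lib.HW.A2
import Cfsg.Agent.Lib.N8.Out

/-!
# S3665 (`J₂` by order; copy of `Lib.TA`, helper10): reduction to `Al`
-/

set_option autoImplicit false

namespace Cfsg.Lib.HW

open Subgroup Cfsg.Lib.BG Cfsg.Lib.FGS Cfsg.Lib.SR Cfsg.Lib.N8
open scoped commutatorElement Cfsg.Lib.Transfer

variable {G : Type*} [Group G] [Finite G] {A B M T : Subgroup G} {s : G}

theorem ixc (hA : A ≤ M) (c : Nat.card M = 2 * Nat.card A) {x y : G} (hx : x ∈ M) (hy : y ∈ M) (x' : x ∉ A) (y' : y ∉ A) :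
    x * y ∈ A := by
  have e : (A.subgroupOf M).index = 2 := by
    have := (A.subgroupOf M).index_mul_card
    rw [Nat.card_congr (subgroupOfEquivOfLe hA).toEquiv, c] at this
    exact Nat.eq_of_mul_eq_mul_right Nat.card_pos this
  exact (mul_mem_iff_of_index_two e (a := ⟨x, hx⟩) (b := ⟨y, hy⟩)).2 (iff_of_false x' y')

theorem card_ix (hA : A ≤ M) (ne : ¬ M ≤ A) (i : ∀ x ∈ M, ∀ y ∈ M, x ∉ A → y ∉ A → x * y ∈ A) :
    Nat.card M = 2 * Nat.card A := by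
  obtain ⟨m, m1, m2⟩ := SetLike.not_le_iff_exists.1 ne
  refine le_antisymm (Harada.card_le_two_mul (s := m) fun g hg => ?_) (Harada.two_mul_le (lt_of_le_not_ge hA ne))
  by_cases q : g ∈ A
  exacts [.inl q, .inr (i _ (inv_mem m1) g hg (fun c => m2 (inv_mem_iff.1 c)) q)]

namespace Ax

/-- If `T ≤ 𝐍(A)`: `Ga.al`.  Otherwise `M = T ⊓ 𝐍(A)` has order 64 (`A < M < T`, normalizer condition), take `t ∈ T ∖ M`,
`A' = t ⋆ A ≠ A`, `A' ≤ M` (`ixnorm`), `a ∈ A ∖ A'`, `a' ∈ A' ∖ A`.  `A`, `A'` have index 2 in `M`, `Z = A ⊓ A'` has order 16 and is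
central in `M = A ⊔ ⟨a'⟩`, `M = Z ∪ Z a ∪ Z a' ∪ Z a a'`, squares: `1, 1, 1, z = (a a')²`; `z ∈ A` (`(a a')² = a · cj a' a`), so
`z² = 1`, and `h.al` applies. -/
theorem _root_.Cfsg.Lib.HW.Bx.red32n (h : Bx T) (hA : A ≤ T) (e : El A) (c : Nat.card A = 32) (n : ¬ T ≤ 𝐍(A)) :
    ∃ M z, Al T M z := by
  have := Fact.mk Nat.prime_two
  obtain ⟨M, l1, l2, l3, c1⟩ := PGroup.exists_card_eq_mul_of_lt h.pg (lt_of_le_of_ne hA fun q => by
    have := h.card; rw [← q, c] at this; omega)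
  have c2 : Nat.card M = 64 := by rw [c1, c]
  obtain ⟨t, ht, t'⟩ := SetLike.not_le_iff_exists.1 n
  have l4 : t ⋆ A ≤ M := conj_le_of_norm l1 (h.ixnorm l2 c2 ht)
  have c3 := Transfer.card_conj t A
  have e' : El (t ⋆ A) := fun x hx => by
    obtain ⟨y, hy, rfl⟩ := hx
    exact cj_sq1 (e y hy)
  obtain ⟨b, b1, b2⟩ := SetLike.not_le_iff_exists.1 fun q : t ⋆ A ≤ A => t' (Transfer.mem_normalizer_of_conj_le q)
  obtain ⟨a, a1, a2⟩ := SetLike.not_le_iff_exists.1 fun q : A ≤ t ⋆ A =>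
    t' (norm_of_conj_eq (eq_of_le_of_card_ge q c3.le).symm)
  have k : ∀ x ∈ A, x * b * (x * b) = x * cj b x := fun x hx => by rw [cj_def, inv_self (e' b b1)]; group
  have k1 : ∀ x ∈ A, x ∈ t ⋆ A → cj b x = x := fun x hx q => cj_of_comm (sq_comm e' b1 q)
  have hz : a * cj b a ∈ A := mul_mem a1 (cj_mem (l3 (l4 b1)) a1)
  refine ⟨M, _, h.al l2 c2 (l1 hz) (e _ hz) fun m hm => ?_⟩
  by_cases q : m ∈ A
  · exact .inl (e m q)
  have hx := ixc l1 c1 hm (inv_mem (l4 b1)) q fun c => b2 (inv_mem_iff.1 c)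
  obtain ⟨x, rfl⟩ : ∃ x, m = x * b := ⟨m * b⁻¹, by group⟩
  rw [mul_inv_cancel_right] at hx
  rw [k x hx]
  by_cases q' : x ∈ t ⋆ A
  · exact .inl (by rw [k1 x hx q', e x hx])
  have hy := ixc l4 (c3 ▸ c1) (l1 a1) (l1 hx) a2 q'
  obtain ⟨y, rfl⟩ : ∃ y, x = a * y := ⟨a * x, by rw [← mul_assoc, e a a1, one_mul]⟩
  rw [← mul_assoc, e a a1, one_mul] at hy
  have y1 := (A.mul_mem_cancel_left a1).1 hx
  refine .inr ?_
  rw [map_mul, k1 y y1 hy, mul_assoc, ← mul_assoc y, sq_comm e y1 (cj_mem (l3 (l4 b1)) a1), mul_assoc, e y y1, mul_one]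

variable (h : Ax T s)
include h

theorem red32 (hA : A ≤ T) (e : El A) (c : Nat.card A = 32) : ∃ M z, Al T M z := by
  by_cases n : T ≤ 𝐍(A)
  exacts [Ga.al ⟨hA, e, c, n⟩ h, h.red32n hA e c n]

/-- `w = s² ∈ B` has order 4, so `B = ⟨w⟩`, normal in `T` (`⁅T, T⁆ ≤ B`); `z = w²` is centralized by `T`.  `C = T ⊓ 𝐂[w]` has
index `≤ 2` (`cj t w ∈ {w, w⁻¹}`); `C = T` gives `Cl2 T`.  Take `t ∈ T ∖ C`.  For `x ∈ T ∖ C`, `x² ∈ B ⊓ 𝐂[x] = ⟨z⟩`.
`R = {x ∈ C | ⁅x, t⁆ ∈ ⟨z⟩}` is the kernel of `C → B/⟨z⟩`, of index `≤ 2`.  For `x ∈ C`: `(x t)² = x · cj t x · t²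
= x ⁅t, x⁆ x t² = x² ⁅t, x⁆ t²` (`B` is central in `C`) and `(x t)², t² ∈ ⟨z⟩`, so `x² ∈ ⟨z⟩ ↔ x ∈ R`.  `s ∈ C ∖ R`, so
`|R| = 32` and `M = R ⊔ ⟨t⟩` (`card_sup_zp`) has order 64 and squares in `⟨z⟩`: `h.al`. -/
theorem red128 (hs : Sect 2 B T) (c : Nat.card B = 4) : ∃ M z, Al T M z := by
  have sq : ∀ x ∈ T, x * x ∈ B := fun x hx => pow_two x ▸ hs.pow x hx
  have cm : ∀ x ∈ T, ∀ y ∈ T, ⁅x, y⁆ ∈ B := fun x hx y hy => hs.comm (commutator_mem_commutator hx hy)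
  obtain ⟨w, hw⟩ : ∃ w, w = s * s := ⟨_, rfl⟩
  have o4 : orderOf w = 4 := by rw [hw, ← pow_two, orderOf_pow' _ two_ne_zero, h.ord]; rfl
  have w4 : w ^ 4 = 1 := o4 ▸ pow_orderOf_eq_one w
  have zz : w * w * (w * w) = 1 := (p4 w).symm.trans w4
  have z1 : w * w ≠ 1 := hw ▸ h.s4
  have wB : w ∈ B := hw ▸ sq s h.mem
  have eB : zpowers w = B := eq_of_le_of_card_ge (zpowers_le.2 wB) (by rw [c, Nat.card_zpowers, o4])
  have mB : ∀ y ∈ B, y ∈ zpowers (w * w) ∨ y = w ∨ y = w⁻¹ := fun y hy => by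
    rcases (Inv.mem_zpowers_iff_of_pow_four w4).1 (eB ▸ hy) with q | q | q | q
    exacts [.inl (q ▸ one_mem _), .inr (.inl q), .inl (q ▸ mem_zpowers _), .inr (.inr q)]
  have mZ : ∀ {y}, y ∈ zpowers (w * w) ↔ y = 1 ∨ y = w * w := Inv.mem_zpowers_iff_of_mul_self zz
  have iz : w⁻¹ * w⁻¹ = w * w := by rw [← mul_inv_rev, inv_self zz]
  have cw : ∀ t ∈ T, cj t w = w ∨ cj t w = w⁻¹ := fun t ht =>
    (mB _ (by rw [cj_eq]; exact mul_mem (cm t ht w (hs.le wB)) wB)).resolve_left fun q => z1 (cj_eq_one.1 (by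
      rw [map_mul]
      rcases mZ.1 q with q | q <;> rw [q]
      exacts [one_mul 1, zz]))
  have cz : ∀ t ∈ T, ∀ y ∈ zpowers (w * w), cj t y = y := fun t ht y hy => by
    rcases mZ.1 hy with rfl | rfl
    · exact map_one _
    rcases cw t ht with q | q <;> rw [map_mul, q]
    exact iz
  have cB : ∀ x ∈ T ⊓ 𝐂[w], ∀ y ∈ B, cj x y = y := fun x hx y hy =>
    cj_of_cent (cent_zpowers w ▸ hx.2 : x ∈ 𝐂(zpowers w)) (eB ▸ hy)
  have n1 : ¬ T ≤ T ⊓ 𝐂[w] := fun q => h.ncl fun x hx y hy =>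
    mem_cent.2 fun t ht => comm_of_cj (cB t (q ht) _ (cm x hx y hy))
  obtain ⟨t, ht, t'⟩ := SetLike.not_le_iff_exists.1 n1
  have out : ∀ x ∈ T, x ∉ T ⊓ 𝐂[w] → x * x ∈ zpowers (w * w) := fun x hx q => (mB _ (sq x hx)).resolve_right fun r =>
    q ⟨hx, by
      rcases r with r | r
      · exact mem_cent1.2 (by rw [← r, mul_assoc])
      · exact cent1_inv w ▸ mem_cent1.2 (by rw [← r, mul_assoc])⟩
  have c1 := card_ix inf_le_left n1 fun x hx y hy x' y' => ⟨mul_mem hx hy, mem_cent1.2 (comm_of_cj (by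
    rw [← cj_cj, (cw y hy).resolve_left fun q => y' ⟨hy, mem_cent1.2 (comm_of_cj q)⟩, map_inv,
      (cw x hx).resolve_left fun q => x' ⟨hx, mem_cent1.2 (comm_of_cj q)⟩, inv_inv]))⟩
  have f1 : ∀ m n : G, ⁅m * n, t⁆ = cj m ⁅n, t⁆ * ⁅m, t⁆ := fun m n => by simp only [cdef, cj_def]; group
  let R : Subgroup G :=
    { carrier := {m | m ∈ T ⊓ 𝐂[w] ∧ ⁅m, t⁆ ∈ zpowers (w * w)}
      one_mem' := ⟨one_mem _, by simp⟩
      mul_mem' := fun {m n} hm hn => ⟨mul_mem hm.1 hn.1, by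
        rw [f1, cz m hm.1.1 _ hn.2]; exact mul_mem hn.2 hm.2⟩
      inv_mem' := fun {m} hm => ⟨inv_mem hm.1, by
        have : ⁅m⁻¹, t⁆ = cj m⁻¹ ⁅m, t⁆⁻¹ := by simp only [cdef, cj_def]; group
        rw [this, cz _ (inv_mem hm.1.1) _ (inv_mem hm.2)]; exact inv_mem hm.2⟩ }
  have RC : R ≤ T ⊓ 𝐂[w] := fun _ q => q.1
  have o2 : ∀ x ∈ T ⊓ 𝐂[w], x * t ∉ T ⊓ 𝐂[w] := fun x hx q => t' (((T ⊓ 𝐂[w]).mul_mem_cancel_left hx).1 q)
  have key : ∀ x ∈ T ⊓ 𝐂[w], (x * x ∈ zpowers (w * w) ↔ x ∈ R) := fun x hx => by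
    have q := out _ (mul_mem hx.1 ht) (o2 x hx)
    have : x * t * (x * t) = cj x ⁅t, x⁆ * (x * x) * (t * t) := by simp only [cdef, cj_def]; group
    rw [this, cB x hx _ (cm t ht x hx.1), Subgroup.mul_mem_cancel_right _ (out t ht t')] at q
    exact ⟨fun r => ⟨hx, cm_swap ((Subgroup.mul_mem_cancel_right _ r).1 q)⟩,
      fun r => (Subgroup.mul_mem_cancel_left _ (cm_swap r.2)).1 q⟩
  have ZR : zpowers (w * w) ≤ R := fun y hy =>
    ⟨⟨hs.le (eB ▸ zpowers_le.2 (mul_mem (mem_zpowers w) (mem_zpowers w)) hy),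
      mem_cent1_symm (mem_cent1.2 (comm_of_cj (cz w (hs.le wB) y hy)))⟩, by
      rw [cm_one.2 (comm_of_cj (cz t ht y hy)).symm]; exact one_mem _⟩
  have sC : s ∈ T ⊓ 𝐂[w] := ⟨h.mem, mem_cent1.2 (by rw [hw, mul_assoc])⟩
  have c2 := card_ix RC (fun q => by
      rcases mZ.1 ((key s sC).2 (q sC)) with r | r <;> rw [← hw] at r
      exacts [z1 (by rw [r, one_mul]), z1 (by rw [← r, left_eq_mul.1 r])]) fun x hx y hy x' y' =>
    ⟨mul_mem hx hy, by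
      rw [f1, cB x hx _ (cm y hy.1 t ht)]
      rcases (mB _ (cm x hx.1 t ht)).resolve_left fun q => x' ⟨hx, q⟩ with q | q <;>
        rcases (mB _ (cm y hy.1 t ht)).resolve_left fun q => y' ⟨hy, q⟩ with r | r <;> rw [q, r] <;> simp [iz]⟩
  have tN : t ∈ 𝐍(R) := norm_of fun r hr => by rw [cj_eq]; exact mul_mem (ZR (cm_swap hr.2)) hr
  have t2 := ZR (out t ht t')
  refine ⟨R ⊔ zpowers t, w * w, h.al (sup_le (RC.trans inf_le_left) (zpowers_le.2 ht)) ?_ (mem_sup_left (ZR (mem_zpowers _))) zz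
    fun x hx => mZ.1 ?_⟩
  · rw [card_sup_zp tN (fun q => t' q.1) t2]; have := h.card; omega
  rcases (mem_sup_zp tN t2).1 hx with q | q
  · exact (key x q.1).2 q
  obtain ⟨r, rfl⟩ : ∃ r, x = r * t := ⟨x * t⁻¹, by group⟩
  rw [mul_inv_cancel_right] at q
  exact out _ (mul_mem q.1.1 ht) (o2 r q.1)

/-- Let `A / B` be an elementary section with `16 |B| < |A|`; orders are powers of 2 dividing 128.  `|A| = 128`: `A = T`, `s² ∈ B` has
order 4, so `|B| = 4`: `red128`.  `|A| = 64`: `s² ∈ A` (`ixsq`), `s⁴ ∈ B`, so `B = {1, z}`: `h.al`.  `|A| = 32`, `B = ⊥`: `red32`. -/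
theorem red (hs : ¬ SR 2 4 T) : ∃ M z, Al T M z := by
  simp only [SR, not_forall, not_le] at hs
  obtain ⟨B, A, hA, hs, c⟩ := hs
  have d1 : Nat.card A ∣ 2 ^ 7 := (h.card.trans (by norm_num : 128 = 2 ^ 7)) ▸ card_dvd_of_le hA
  have d2 := (card_dvd_of_le hs.le).trans d1
  obtain ⟨i, hi, e1⟩ := (Nat.dvd_prime_pow Nat.prime_two).1 d1
  obtain ⟨j, -, e2⟩ := (Nat.dvd_prime_pow Nat.prime_two).1 d2
  have sq : ∀ x ∈ A, x * x ∈ B := fun x hx => pow_two x ▸ hs.pow x hx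
  rw [e1, e2, ← pow_add, Nat.pow_lt_pow_iff_right one_lt_two] at c
  have one : ∀ x ∈ B, x ≠ 1 → j ≤ 1 → ∀ y ∈ B, y = 1 ∨ y = x := fun x hx x1 l y hy => by
    have : Nat.card B ≤ 2 := e2 ▸ (Nat.pow_le_pow_right two_pos l).trans (pow_one 2).le
    by_contra q
    rw [not_or] at q
    have := Set.ncard_le_ncard (show ({1, x, y} : Set G) ⊆ B from fun a ha => by
      rcases ha with rfl | rfl | rfl <;> first | assumption | exact one_mem _)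
    rw [Set.ncard_eq_three.2 ⟨1, x, y, x1.symm, Ne.symm q.1, Ne.symm q.2, rfl⟩] at this
    exact absurd (this.trans ‹_›) (by decide)
  rcases (by omega : i = 7 ∨ i = 6 ∨ i = 5) with rfl | rfl | rfl
  · obtain rfl : A = T := eq_of_le_of_card_ge hA (by rw [h.card, e1]; norm_num)
    refine h.red128 hs ?_
    by_cases l : j ≤ 1
    · have hb := sq s h.mem
      have b1 : s * s ≠ 1 := fun q => h.s4 (by rw [q, one_mul])
      rcases one _ hb b1 l _ (mul_mem hb hb) with q | q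
      exacts [absurd q h.s4, absurd (mul_eq_left.1 q) b1]
    · rw [e2, show j = 2 by omega]; rfl
  · have hz := sq _ (h.ixsq hA e1 h.mem)
    refine ⟨A, _, h.al hA e1 (hs.le hz) ?_ fun m hm => one _ hz h.s4 (by omega) _ (sq m hm)⟩
    exact (one _ hz h.s4 (by omega) _ (mul_mem hz hz)).resolve_right fun q => h.s4 (mul_eq_left.1 q)
  · obtain rfl : j = 0 := by omega
    exact h.red32 hA (fun x hx => mem_bot.1 (eq_bot_of_card_eq B e2 ▸ sq x hx)) e1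

end Ax

end Cfsg.Lib.HW
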