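import Cfsg.Agent.Lib.HW.A0
import Cfsg.Agent.Lib.N8.Out

/-!
# S3665 (`J₂` by order; copy of `Lib.TA`, helper10): no conjugate of `z` in `M` but `z`
-/

set_option autoImplicit false

namespace Cfsg.Lib.HW

open Subgroup Cfsg.Lib.BG Cfsg.Lib.FGS Cfsg.Lib.SR Cfsg.Lib.N8
open scoped commutatorElement Cfsg.Lib.Transfer

variable {G : Type*} [Group G] [Finite G] {M T : Subgroup G} {m s u z : G}

omit [Finite G] in
theorem Al.zp (a : Al T M z) {x : G} : x ∈ zpowers z ↔ x = 1 ∨ x = z := Inv.mem_zpowers_iff_of_mul_self a.zz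

omit [Finite G] in
theorem Al.zc (a : Al T M z) {x t : G} (hx : x ∈ zpowers z) (ht : t ∈ T) : t * x = x * t := by
  rcases a.zp.1 hx with rfl | rfl
  exacts [by simp, mem_cent1.1 (a.cen ht)]

namespace Al

variable (a : Al T M z) (h : Ax T s) (hb : ∀ v ∈ M, IsConj v z → v = z) (hu : u ∈ T) (e : IsConj u z) (ne : u ≠ z)
include a h hb hu e ne

/-- `extr` gives `k` with `cj k u = z`, `k ⋆ E ≤ T` for `E = T ⊓ 𝐂[u]`.  `E₁ = {x ∈ E | cj k x ∈ M}` has index `≤ 2` in `E` (`a.ix`), its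
only conjugate of `z` is `u` (`hb`), so `z ∈ E ∖ E₁`. -/
theorem b1 : ∃ E₁ ≤ T ⊓ 𝐂[u], (∀ x ∈ T ⊓ 𝐂[u], ∀ y ∈ T ⊓ 𝐂[u], x ∉ E₁ → y ∉ E₁ → x * y ∈ E₁) ∧ z ∉ E₁ ∧
    ∀ v ∈ E₁, IsConj v z → v = u := by
  obtain ⟨k, e1, hk⟩ := h.extr a.cen e (h.pg.to_inf_left (K := 𝐂[u])) inf_le_right
  have u1 : ∀ v ∈ (T ⊓ 𝐂[u]) ⊓ M.comap (cj k), IsConj v z → v = u := fun v hv c =>
    cj_inj ((hb _ hv.2 ((isConj_iff.2 ⟨k, rfl⟩ : IsConj v (cj k v)).symm.trans c)).trans e1.symm)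
  refine ⟨_, inf_le_left, fun x hx y hy x' y' => ⟨mul_mem hx hy, ?_⟩, fun hz => ne (u1 z hz (.refl z)).symm, u1⟩
  show cj k (x * y) ∈ M
  exact (map_mul (cj k) x y).symm ▸ a.ix h (hk (Transfer.conj_mem_conj.2 hx)) (hk (Transfer.conj_mem_conj.2 hy))
    (fun c => x' ⟨hx, c⟩) fun c => y' ⟨hy, c⟩

omit [Finite G] h hb hu ne in
theorem uu : u * u = 1 := by
  obtain ⟨c, rfl⟩ := isConj_iff.1 e
  exact cj_eq_one.1 ((map_mul (cj c) u u).trans a.zz)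

omit [Finite G] a h hu in
theorem uM : u ∉ M := fun c => ne (hb u c e)

/-- `u ∉ M`.  For `x ∈ E ⊓ M`: `x² ∈ {1, z}` and `x² ∈ E₁ ∌ z` (`b1`).  For `x ∈ E ∖ M`: `x u ∈ E ⊓ M`, `x² = (x u)²`. -/
theorem b2 : El (T ⊓ 𝐂[u]) := by
  obtain ⟨E, l, i, z', -⟩ := a.b1 h hb hu e ne
  have k : ∀ x ∈ T ⊓ 𝐂[u], x ∈ M → x * x = 1 := fun x hx m => (a.sq x m).resolve_right fun c => z' (c ▸ by
    by_cases q : x ∈ E
    exacts [mul_mem q q, i x hx x hx q q])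
  intro x hx
  by_cases m : x ∈ M
  · exact k x hx m
  have := k _ (mul_mem hx ⟨hu, self_mem_cent1 u⟩) (a.ix h hx.1 hu m (uM hb e ne))
  rwa [mul_assoc, ← mul_assoc u, ← mem_cent1.1 hx.2, mul_assoc, a.uu e, mul_one] at this

omit [Finite G] h hb hu ne in
theorem inv_cm (m : G) : cj u ⁅m, u⁆ = ⁅m, u⁆⁻¹ := by
  rw [cj_def, N8.cm_inv, cdef, cdef, mul_assoc, mul_assoc, ← mul_inv_rev, a.uu e, inv_self (a.uu e)]; group

omit hb e ne in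
theorem cmM (hm : m ∈ M) : ⁅m, u⁆ ∈ M := by
  rw [cdef, mul_assoc, mul_assoc, ← mul_assoc u]; exact mul_mem hm (conj_mem_of_norm (a.norm h hu) (inv_mem hm))

/-- `w = ⁅m, u⁆ ∈ M`, `cj m u = w u` is an involution, so `u` inverts `w`.  `s ∈ M u` commutes with `b = s²`, so
`⁅b, u⁆ ∈ {1, z}` (`a.cm`), and `b ∉ E` (`b2`, `b² = z`): `cj b u = z u`, so `z u` is conjugate to `z`.  If `w² = 1` then `w ∈ E`; `w u` and
`z w u = cj m (z u)` are conjugates of `z` in `E`, one of them lies in `E₁` (`b1`) and equals `u`: `w ∈ {1, z}`. -/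
theorem b3 (hm : m ∈ M) (h1 : ⁅m, u⁆ ≠ 1) (h2 : ⁅m, u⁆ ≠ z) : ⁅m, u⁆ * ⁅m, u⁆ = z := by
  refine (a.sq _ (a.cmM h hu hm)).resolve_left fun w2 => ?_
  obtain ⟨E, l, i, z', u1⟩ := a.b1 h hb hu e ne
  have wc : ⁅m, u⁆ ∈ T ⊓ 𝐂[u] := ⟨a.le (a.cmM h hu hm), cj_fix.1 ((a.inv_cm e m).trans (inv_self w2))⟩
  have hn := a.ix h h.mem hu (a.sM h) (uM hb e ne)
  have hbM := a.sqM h h.mem
  have e0 : ⁅s * s, u⁆ = cj s⁻¹ ⁅s * s, s * u⁆ := by simp only [cdef, cj_def]; group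
  have e1 : ⁅s * s, u⁆ = z := by
    rcases a.cm hbM hn with c | c
    · rw [c, map_one] at e0
      exact absurd (a.b2 h hb hu e ne _ ⟨a.le hbM, mem_cent1.2 (cm_one.1 e0)⟩) h.s4
    · rw [e0, c]; exact cj_of_comm (mem_cent1.1 (a.cen (inv_mem h.mem)))
  have zE : z ∈ T ⊓ 𝐂[u] := ⟨a.le a.mem, mem_cent1_symm (a.cen hu)⟩
  have uE : u ∈ T ⊓ 𝐂[u] := ⟨hu, self_mem_cent1 u⟩
  have c1 : IsConj (⁅m, u⁆ * u) z := (isConj_iff.2 ⟨m, cj_eq m u⟩ : IsConj u _).symm.trans e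
  have c2 : IsConj (z * (⁅m, u⁆ * u)) z := by
    refine (isConj_iff.2 ⟨m * (s * s), ?_⟩ : IsConj u _).symm.trans e
    rw [← cj_def, ← cj_cj, cj_eq (s * s), e1, map_mul, cj_eq m u, cj_of_comm (mem_cent1.1 (a.cen (a.le hm)))]
  by_cases q1 : ⁅m, u⁆ * u ∈ E
  · exact h1 (by simpa using u1 _ q1 c1)
  by_cases q2 : z * (⁅m, u⁆ * u) ∈ E
  · have := u1 _ q2 c2
    rw [← mul_assoc, mul_eq_right, mul_eq_one_iff_inv_eq, inv_self a.zz] at this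
    exact h2 this.symm
  have := i _ (mul_mem zE (mul_mem wc uE)) _ (mul_mem wc uE) q2 q1
  rw [mul_assoc, a.b2 h hb hu e ne _ (mul_mem wc uE), mul_one] at this
  exact z' this

/-- `R = {m ∈ M | ⁅m, u⁆ ∈ {1, z}}` is a subgroup (`⁅m n, u⁆ = cj m ⁅n, u⁆ · ⁅m, u⁆ ∈ ⁅n, u⁆ ⁅m, u⁆ ⟨z⟩` by `a.cm`).  If `m, n, m n ∉ R`, put
`w₁ = ⁅m, u⁆`, `w₂ = ⁅n, u⁆`; by `b3` `w₁² = w₂² = (w₂ w₁)² = z`, and `u` inverts `w₁`, `w₂`, `w₂ w₁`: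
`cj u (w₂ w₁) = w₂ z w₁ z = w₂ w₁` and `= (w₂ w₁)⁻¹ = w₂ w₁ z`, absurd.  So `|M : R| ≤ 2`; `R = M` gives `⁅T, T⁆ ≤ ⟨z⟩`, `Cl2 T`.
So `|R| = 32`, `M' = R ⊔ ⟨u⟩` has order 64 (`card_sup_zp`), squares `r²`, `(r u)² = r · cj u r = r ⁅u, r⁆ r ∈ ⟨z⟩`.  `b2`. -/
theorem b4 : ∃ M', Al T M' z ∧ u ∈ M' ∧ El (M' ⊓ 𝐂[u]) := by
  have nZ : ∀ t ∈ T, ∀ x ∈ zpowers z, cj t x = x := fun t ht x hx => cj_of_comm (a.zc hx ht)
  have f1 : ∀ m n : G, ⁅m * n, u⁆ = cj m ⁅n, u⁆ * ⁅m, u⁆ := fun m n => by simp only [cdef, cj_def]; group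
  let R : Subgroup G :=
    { carrier := {m | m ∈ M ∧ ⁅m, u⁆ ∈ zpowers z}
      one_mem' := ⟨one_mem _, by simp⟩
      mul_mem' := fun {m n} hm hn => ⟨mul_mem hm.1 hn.1, by
        rw [f1, nZ m (a.le hm.1) _ hn.2]; exact mul_mem hn.2 hm.2⟩
      inv_mem' := fun {m} hm => ⟨inv_mem hm.1, by
        have : ⁅m⁻¹, u⁆ = cj m⁻¹ ⁅m, u⁆⁻¹ := by simp only [cdef, cj_def]; group
        rw [this, nZ _ (inv_mem (a.le hm.1)) _ (inv_mem hm.2)]; exact inv_mem hm.2⟩ }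
  have RM : R ≤ M := fun _ c => c.1
  have ZR : ∀ x ∈ zpowers z, x ∈ R := fun x hx =>
    ⟨zpowers_le.2 a.mem hx, by rw [cm_one.2 (a.zc hx hu).symm]; exact one_mem _⟩
  have sq : ∀ m ∈ M, m ∉ R → ⁅m, u⁆ * ⁅m, u⁆ = z ∧ cj u ⁅m, u⁆ = ⁅m, u⁆ * z := fun m hm c => by
    have := a.b3 h hb hu e ne hm (fun q => c ⟨hm, a.zp.2 (.inl q)⟩) fun q => c ⟨hm, a.zp.2 (.inr q)⟩
    refine ⟨this, ?_⟩
    rw [a.inv_cm e, inv_eq_iff_mul_eq_one, ← mul_assoc, this, a.zz]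
  have ix : ∀ m ∈ M, ∀ n ∈ M, m ∉ R → n ∉ R → m * n ∈ R := fun m hm n hn m' n' => by
    by_contra c
    have k := (sq _ (mul_mem hm hn) c).2
    have hε : ⁅m, ⁅n, u⁆⁆ ∈ zpowers z := a.zp.2 (a.cm hm (a.cmM h hu hn))
    rw [f1, cj_eq m, map_mul, map_mul, nZ u hu _ hε, (sq m hm m').2, (sq n hn n').2, mul_assoc, mul_assoc, mul_assoc,
      mul_assoc, mul_right_inj, mul_right_inj, ← mul_assoc, ← a.zc (mem_zpowers z) (a.le (a.cmM h hu hm)), mul_assoc,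
      a.zz, mul_right_inj] at k
    exact a.ne k.symm
  have ne' : ¬ M ≤ R := fun c => h.ncl fun x hx y hy => by
    have k : ∀ m ∈ M, ∀ x ∈ T, ⁅m, x⁆ ∈ zpowers z := fun m hm x hx => by
      by_cases q : x ∈ M
      · exact a.zp.2 (a.cm hm q)
      have hn := a.ix h hx (inv_mem hu) q fun c => uM hb e ne (inv_mem_iff.1 c)
      have : ⁅m, x⁆ = ⁅m, x * u⁻¹⁆ * cj (x * u⁻¹) ⁅m, u⁆ := by simp only [cdef, cj_def]; group
      rw [this, nZ _ (a.le hn) _ (c hm).2]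
      exact mul_mem (a.zp.2 (a.cm hm hn)) (c hm).2
    refine mem_cent.2 fun t ht => a.zc ?_ ht
    by_cases q : x ∈ M
    · exact k x q y hy
    by_cases q' : y ∈ M
    · exact cm_swap (k y q' x hx)
    have : ⁅x, y⁆ = ⁅x * y⁻¹, y⁆ := by simp only [cdef]; group
    exact this ▸ k _ (a.ix h hx (inv_mem hy) q fun c => q' (inv_mem_iff.1 c)) y hy
  obtain ⟨m₀, m1, m2⟩ := SetLike.not_le_iff_exists.1 ne'
  have c1 := Harada.two_mul_le (lt_of_le_not_ge RM ne')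
  have c2 : Nat.card M ≤ 2 * Nat.card R := Harada.card_le_two_mul (s := m₀) fun g hg => by
    by_cases q : g ∈ R
    exacts [.inl q, .inr (ix _ (inv_mem m1) g hg (fun c => m2 (inv_mem_iff.1 c)) q)]
  have uN : u ∈ 𝐍(R) := norm_of fun r hr => by rw [cj_eq]; exact mul_mem (ZR _ (cm_swap hr.2)) hr
  have u2 : u * u ∈ R := by rw [a.uu e]; exact one_mem _
  have l : R ⊔ zpowers u ≤ T := sup_le (RM.trans a.le) (zpowers_le.2 hu)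
  refine ⟨R ⊔ zpowers u, h.al l ?_ (mem_sup_left (ZR z (mem_zpowers z))) a.zz fun x hx => ?_, mem_sup_right (mem_zpowers u),
    fun x hx => a.b2 h hb hu e ne x ⟨l hx.1, hx.2⟩⟩
  · rw [card_sup_zp uN (fun c => uM hb e ne c.1) u2]; have := a.card; omega
  rcases (mem_sup_zp uN u2).1 hx with q | q
  · exact a.sq x q.1
  obtain ⟨r, rfl⟩ : ∃ r, x = r * u := ⟨x * u⁻¹, by group⟩
  rw [mul_inv_cancel_right] at q
  have : r * u * (r * u) = r * ⁅u, r⁆ * r * (u * u) := by simp only [cdef]; group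
  rw [this, a.uu e, mul_one, a.zc (cm_swap q.2) (a.le q.1), mul_assoc]
  exact a.zp.1 (mul_mem (cm_swap q.2) (a.zp.2 (a.sq r q.1)))

end Al

end Cfsg.Lib.HW
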